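import Mathlib
import Cfsg.Prelude.Def_PLocal
import Cfsg.Agent.H449.Lcs
set_option linter.all false

/-!
# Polynomial sequences in a filtered group and the Hall–Petrescu formula

`F : ℕ → Subgroup G` is a filtration: antitone and `⁅F i, F j⁆ ≤ F (i + j)`.  `Poly F k i` is the set
of sequences `g : ℕ → G` with `∂^l g` valued in `F (i + l)` for all `l ≤ k`, where
`∂ g n = g (n + 1) * (g n)⁻¹`.

* `Filt.poly_mul`, `Filt.poly_inv`, `Filt.poly_comm`: (Lazard, Leibman) polynomial sequences form a
  group.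
* `Filt.exists_taylor`: Taylor expansion.
* `hall_petrescu`: `(ab)^n = a^n b^n c_2^(n choose 2) c_3^(n choose 3) ⋯` with `c_i ∈ γ_i(⟨a, b⟩)`.
* `isRegular_of_lcs`: `p`-groups of class `< p` are regular.
-/

set_option autoImplicit false

open scoped commutatorElement

namespace Cfsg.Agent.H541.PolySeq

variable {G : Type*} [Group G]

/-- A filtration of a group. -/
structure Filt (F : ℕ → Subgroup G) : Prop where
  anti : ∀ i, F (i + 1) ≤ F i
  comm : ∀ i j, ⁅F i, F j⁆ ≤ F (i + j)

/-- The (multiplicative) difference of a sequence. -/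
def dif (g : ℕ → G) : ℕ → G := fun n => g (n + 1) * (g n)⁻¹

/-- `Poly F k i g`: `∂^l g` is valued in `F (i + l)` for all `l ≤ k`. -/
def Poly (F : ℕ → Subgroup G) : ℕ → ℕ → (ℕ → G) → Prop
  | 0, i, g => ∀ n, g n ∈ F i
  | k + 1, i, g => (∀ n, g n ∈ F i) ∧ Poly F k (i + 1) (dif g)

namespace Filt

variable {F : ℕ → Subgroup G}

theorem antitone (hF : Filt F) : Antitone F := antitone_nat_of_succ_le hF.anti

theorem mono_le (hF : Filt F) {i j : ℕ} (h : i ≤ j) : F j ≤ F i := hF.antitone h

theorem comm_mem (hF : Filt F) {i j : ℕ} {x y : G} (hx : x ∈ F i) (hy : y ∈ F j) :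
    ⁅x, y⁆ ∈ F (i + j) :=
  hF.comm i j (Subgroup.commutator_mem_commutator hx hy)

theorem poly_val {k i : ℕ} {g : ℕ → G} (h : Poly F k i g) (n : ℕ) : g n ∈ F i := by
  cases k with
  | zero => exact h n
  | succ k => exact h.1 n

theorem poly_le (hF : Filt F) {k i j : ℕ} (hij : j ≤ i) {g : ℕ → G} (h : Poly F k i g) :
    Poly F k j g := by
  induction k generalizing i j g with
  | zero => exact fun n => hF.mono_le hij (h n)
  | succ k ih => exact ⟨fun n => hF.mono_le hij (h.1 n), ih (by omega) h.2⟩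

theorem poly_pred {k i : ℕ} {g : ℕ → G} (h : Poly F (k + 1) i g) : Poly F k i g := by
  induction k generalizing i g with
  | zero => exact h.1
  | succ k ih => exact ⟨h.1, ih h.2⟩

theorem poly_one (i k : ℕ) : Poly F k i (fun _ => 1) := by
  induction k generalizing i with
  | zero => exact fun n => (F i).one_mem
  | succ k ih =>
    refine ⟨fun n => (F i).one_mem, ?_⟩
    have : dif (fun _ : ℕ => (1 : G)) = fun _ => 1 := by funext n; simp [dif]
    rw [this]
    exact ih (i + 1)

/-- **Lazard–Leibman**: closure under products, inverses and commutators. -/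
theorem poly_all (hF : Filt F) (k : ℕ) :
    (∀ i (g h : ℕ → G), Poly F k i g → Poly F k i h → Poly F k i (fun n => g n * h n)) ∧
    (∀ i (g : ℕ → G), Poly F k i g → Poly F k i (fun n => (g n)⁻¹)) ∧
    (∀ i j (g h : ℕ → G), Poly F k i g → Poly F k j h →
      Poly F k (i + j) (fun n => ⁅g n, h n⁆)) := by
  induction k with
  | zero =>
    refine ⟨fun i g h hg hh n => (F i).mul_mem (hg n) (hh n),
      fun i g hg n => (F i).inv_mem (hg n), fun i j g h hg hh n => hF.comm_mem (hg n) (hh n)⟩
  | succ k ih =>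
    obtain ⟨ihm, ihi, ihc⟩ := ih
    -- products
    have hm : ∀ i (g h : ℕ → G), Poly F (k + 1) i g → Poly F (k + 1) i h →
        Poly F (k + 1) i (fun n => g n * h n) := by
      intro i g h hg hh
      refine ⟨fun n => (F i).mul_mem (hg.1 n) (hh.1 n), ?_⟩
      have e : dif (fun n => g n * h n) = fun n => dif g n * (⁅g n, dif h n⁆ * dif h n) := by
        funext n
        simp only [dif, commutatorElement_def]
        group
      rw [e]
      refine ihm _ _ _ hg.2 (ihm _ _ _ ?_ hh.2)
      exact hF.poly_le (by omega) (ihc _ _ _ _ (poly_pred hg) hh.2)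
    have hi : ∀ i (g : ℕ → G), Poly F (k + 1) i g → Poly F (k + 1) i (fun n => (g n)⁻¹) := by
      intro i g hg
      refine ⟨fun n => (F i).inv_mem (hg.1 n), ?_⟩
      have e : dif (fun n => (g n)⁻¹) = fun n => ⁅(g n)⁻¹, (dif g n)⁻¹⁆ * (dif g n)⁻¹ := by
        funext n
        simp only [dif, commutatorElement_def]
        group
      rw [e]
      refine ihm _ _ _ ?_ (ihi _ _ hg.2)
      exact hF.poly_le (by omega) (ihc _ _ _ _ (ihi _ _ (poly_pred hg)) (ihi _ _ hg.2))
    refine ⟨hm, hi, ?_⟩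
    intro i j g h hg hh
    refine ⟨fun n => hF.comm_mem (hg.1 n) (hh.1 n), ?_⟩
    have e : dif (fun n => ⁅g n, h n⁆) = fun n =>
        ⁅dif g n, ⁅g n, dif h n * h n⁆⁆ * (⁅g n, dif h n⁆ * (⁅dif h n, ⁅g n, h n⁆⁆ *
          (⁅⁅g n, h n⁆, ⁅dif g n, dif h n * h n⁆⁆ * ⁅dif g n, dif h n * h n⁆))) := by
      funext n
      simp only [dif, commutatorElement_def]
      group
    rw [e]
    have hg' := hg.2
    have hh' := hh.2
    have hg0 := poly_pred hg
    have hh0 := poly_pred hh
    have hprod : Poly F k j (fun n => dif h n * h n) :=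
      ihm _ _ _ (hF.poly_le (by omega) hh') hh0
    refine ihm _ _ _ ?_ (ihm _ _ _ ?_ (ihm _ _ _ ?_ (ihm _ _ _ ?_ ?_)))
    · exact hF.poly_le (by omega) (ihc _ _ _ _ hg' (ihc _ _ _ _ hg0 hprod))
    · exact hF.poly_le (by omega) (ihc _ _ _ _ hg0 hh')
    · exact hF.poly_le (by omega) (ihc _ _ _ _ hh' (ihc _ _ _ _ hg0 hh0))
    · exact hF.poly_le (by omega) (ihc _ _ _ _ (ihc _ _ _ _ hg0 hh0) (ihc _ _ _ _ hg' hprod))
    · exact hF.poly_le (by omega) (ihc _ _ _ _ hg' hprod)

/-- Powers `x ^ (n choose m)` with `x ∈ F m`. -/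
theorem poly_choose (hF : Filt F) {x : G} (k : ℕ) : ∀ (m i : ℕ), x ∈ F (m + i) →
    Poly F k i (fun n => x ^ (n.choose m)) := by
  induction k with
  | zero =>
    intro m i hx n
    exact (F i).pow_mem (hF.mono_le (by omega) hx) _
  | succ k ih =>
    intro m i hx
    refine ⟨fun n => (F i).pow_mem (hF.mono_le (by omega) hx) _, ?_⟩
    cases m with
    | zero =>
      have : dif (fun n : ℕ => x ^ (n.choose 0)) = fun _ => 1 := by funext n; simp [dif]
      rw [this]
      exact poly_one _ _
    | succ m =>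
      have : dif (fun n : ℕ => x ^ (n.choose (m + 1))) = fun n => x ^ (n.choose m) := by
        funext n
        simp only [dif]
        rw [Nat.choose_succ_succ, pow_add, mul_inv_cancel_right]
      rw [this]
      exact ih m (i + 1) (by rwa [show m + (i + 1) = m + 1 + i by ring])

/-- A polynomial sequence vanishing at `0, …, m - 1` takes a value in `F (i + m)` at `m`. -/
theorem val_of_vanish (k : ℕ) : ∀ (m i : ℕ) (g : ℕ → G), m ≤ k → Poly F k i g →
    (∀ n < m, g n = 1) → g m ∈ F (i + m) := by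
  induction k with
  | zero =>
    intro m i g hm hg hv
    obtain rfl : m = 0 := by omega
    exact hg 0
  | succ k ih =>
    intro m i g hm hg hv
    cases m with
    | zero => exact hg.1 0
    | succ m =>
      have h1 := ih m (i + 1) (dif g) (by omega) hg.2 (by
        intro n hn
        simp only [dif]
        rw [hv n (by omega), hv (n + 1) (by omega)]
        simp)
      have h2 : dif g m = g (m + 1) := by
        simp only [dif]
        rw [hv m (by omega)]
        simp
      rw [h2] at h1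
      rwa [show i + (m + 1) = i + 1 + m by ring]

/-- The product `c 0 ^ (n choose 0) * c 1 ^ (n choose 1) * ⋯ * c (m-1) ^ (n choose (m-1))`. -/
def tay (c : ℕ → G) : ℕ → ℕ → G
  | 0, _ => 1
  | m + 1, n => tay c m n * c m ^ (n.choose m)

theorem tay_congr {c d : ℕ → G} {m : ℕ} (h : ∀ i < m, c i = d i) (n : ℕ) :
    tay c m n = tay d m n := by
  induction m with
  | zero => rfl
  | succ m ih =>
    simp only [tay]
    rw [ih (fun i hi => h i (by omega)), h m (by omega)]

theorem poly_tay (hF : Filt F) (k : ℕ) (c : ℕ → G) (hc : ∀ i, c i ∈ F i) (m : ℕ) :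
    Poly F k 0 (tay c m) := by
  induction m with
  | zero => exact poly_one _ _
  | succ m ih => exact (hF.poly_all k).1 _ _ _ ih (hF.poly_choose k m 0 (hc m))

/-- **Taylor expansion** of polynomial sequences. -/
theorem exists_taylor (hF : Filt F) {g : ℕ → G} (hg : ∀ k, Poly F k 0 g) (m : ℕ) :
    ∃ c : ℕ → G, (∀ i, c i ∈ F i) ∧ ∀ n < m, g n = tay c m n := by
  induction m with
  | zero => exact ⟨fun _ => 1, fun i => (F i).one_mem, by intro n hn; omega⟩
  | succ m ih =>
    obtain ⟨c, hc, hcg⟩ := ih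
    set d : G := (tay c m m)⁻¹ * g m with hd
    have hdm : d ∈ F (0 + m) := by
      refine val_of_vanish m m 0 (fun n => (tay c m n)⁻¹ * g n) le_rfl ?_ ?_
      · exact (hF.poly_all m).1 _ _ _ ((hF.poly_all m).2.1 _ _ (hF.poly_tay m c hc m)) (hg m)
      · intro n hn
        rw [hcg n hn, inv_mul_cancel]
    rw [zero_add] at hdm
    refine ⟨fun i => if i = m then d else c i, ?_, ?_⟩
    · intro i
      by_cases h : i = m
      · subst h; simpa using hdm
      · simpa [h] using hc i
    · intro n hn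
      simp only [tay, if_true]
      rw [tay_congr (d := c) (fun i hi => by simp [hi.ne]) n]
      rcases Nat.lt_succ_iff_lt_or_eq.mp hn with h | h
      · rw [Nat.choose_eq_zero_of_lt h, pow_zero, mul_one, hcg n h]
      · subst h
        rw [Nat.choose_self, pow_one, hd, mul_inv_cancel_left]

/-- Taylor expansion when the filtration stops: `F m = 1`. -/
theorem exists_taylor_of_bot (hF : Filt F) {g : ℕ → G} (hg : ∀ k, Poly F k 0 g) (m : ℕ)
    (hm : F m = ⊥) :
    ∃ c : ℕ → G, (∀ i, c i ∈ F i) ∧ ∀ n, g n = tay c m n := by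
  obtain ⟨c, hc, hcg⟩ := hF.exists_taylor hg m
  refine ⟨c, hc, fun n => ?_⟩
  induction n using Nat.strong_induction_on with
  | _ n ih =>
    rcases lt_or_ge n m with h | h
    · exact hcg n h
    · have h1 : (tay c m n)⁻¹ * g n ∈ F (0 + n) := by
        refine val_of_vanish n n 0 (fun n => (tay c m n)⁻¹ * g n) le_rfl ?_ ?_
        · exact (hF.poly_all n).1 _ _ _ ((hF.poly_all n).2.1 _ _ (hF.poly_tay n c hc m)) (hg n)
        · intro l hl
          rw [ih l hl, inv_mul_cancel]
      have h2 := hF.mono_le (show m ≤ 0 + n by omega) h1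
      rw [hm, Subgroup.mem_bot, inv_mul_eq_one] at h2
      exact h2.symm

/-- `n ↦ a ^ n` is polynomial when `F 0 = F 1`. -/
theorem poly_pow (hF : Filt F) {a : G} (ha : a ∈ F 1) (k : ℕ) : Poly F k 0 (fun n => a ^ n) := by
  have := hF.poly_choose (x := a) k 1 0 (by simpa using ha)
  simpa using this

end Filt

/-- The lower central filtration: `L, L = γ_1(L), γ_2(L), …`. -/
def lcf (L : Subgroup G) : ℕ → Subgroup G
  | 0 => L
  | i + 1 => L.lowerCentralSeries i

theorem lcs_comm (L : Subgroup G) (i j : ℕ) :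
    ⁅L.lowerCentralSeries i, L.lowerCentralSeries j⁆ ≤ L.lowerCentralSeries (i + j + 1) := by
  have h := Cfsg.Agent.H449.commutator_lcs_le (⊤ : Subgroup L) i j
  have h2 := Subgroup.map_mono (f := L.subtype) h
  rw [Subgroup.map_commutator] at h2
  simpa only [Subgroup.top_subtype_lowerCentralSeries] using h2

theorem lcf_filt (L : Subgroup G) : Filt (lcf L) where
  anti i := by
    cases i with
    | zero => exact le_rfl
    | succ i => exact L.lowerCentralSeries_antitone (Nat.le_succ i)
  comm i j := by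
    cases i with
    | zero =>
      cases j with
      | zero => exact Subgroup.commutator_le_self L
      | succ j =>
        rw [zero_add, Subgroup.commutator_comm]
        exact (le_of_eq (Subgroup.lowerCentralSeries_succ L j).symm).trans
          (L.lowerCentralSeries_antitone (Nat.le_succ j))
    | succ i =>
      cases j with
      | zero =>
        exact (le_of_eq (Subgroup.lowerCentralSeries_succ L i).symm).trans
          (L.lowerCentralSeries_antitone (Nat.le_succ i))
      | succ j =>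
        rw [show i + 1 + (j + 1) = (i + j + 1) + 1 by ring]
        exact lcs_comm L i j

theorem tay_zero (c : ℕ → G) (m : ℕ) : Filt.tay c (m + 1) 0 = c 0 := by
  induction m with
  | zero => simp [Filt.tay]
  | succ m ih => rw [Filt.tay, ih, Nat.choose_eq_zero_of_lt (by omega)]; simp

theorem tay_one (c : ℕ → G) (h0 : c 0 = 1) (m : ℕ) : Filt.tay c (m + 2) 1 = c 1 := by
  induction m with
  | zero => simp [Filt.tay, h0]
  | succ m ih => rw [Filt.tay, ih, Nat.choose_eq_zero_of_lt (by omega)]; simp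

theorem tay_eq (c : ℕ → G) (h0 : c 0 = 1) (h1 : c 1 = 1) (n m : ℕ) :
    Filt.tay c (m + 2) n =
      (List.ofFn fun i : Fin m => c (i + 2) ^ (n.choose (i + 2))).prod := by
  induction m with
  | zero => simp [Filt.tay, h0, h1]
  | succ m ih =>
    rw [Filt.tay, ih, List.ofFn_succ', List.concat_eq_append, List.prod_append]
    simp

theorem poly_abn (a b : G) (L : Subgroup G) (ha : a ∈ L) (hb : b ∈ L) (k : ℕ) :
    Poly (lcf L) k 0 (fun n => (a ^ n * b ^ n)⁻¹ * (a * b) ^ n) :=
  have hF := lcf_filt L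
  (hF.poly_all k).1 _ _ _ ((hF.poly_all k).2.1 _ _ ((hF.poly_all k).1 _ _ _
      (hF.poly_pow (a := a) ha k) (hF.poly_pow (a := b) hb k)))
      (hF.poly_pow (a := a * b) (L.mul_mem ha hb) k)

/-- The Hall–Petrescu formula, all `n` at once, for nilpotent `⟨a, b⟩`: if `γ_(m+2)(L) = 1`
(`lcf L (m + 2) = ⊥`), then `(ab)^n = a^n b^n c_2^(n choose 2) ⋯ c_(m+1)^(n choose (m+1))`. -/
theorem hall_petrescu_nilp (a b : G) (L : Subgroup G) (ha : a ∈ L) (hb : b ∈ L) (m : ℕ)
    (hm : lcf L (m + 2) = ⊥) :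
    ∃ c : ℕ → G, (∀ i, c i ∈ L.lowerCentralSeries (i + 1)) ∧
      ∀ n, (a * b) ^ n = a ^ n * b ^ n *
        (List.ofFn fun i : Fin m => c i ^ (n.choose (i + 2))).prod := by
  have hF := lcf_filt L
  obtain ⟨c, hc, hcg⟩ := hF.exists_taylor_of_bot (poly_abn a b L ha hb) (m + 2) hm
  have h0 : c 0 = 1 := by
    have h := hcg 0
    rw [tay_zero] at h
    simpa using h.symm
  have h1 : c 1 = 1 := by
    have h := hcg 1
    rw [tay_one c h0] at h
    simpa using h.symm
  refine ⟨fun i => c (i + 2), fun i => hc (i + 2), fun n => ?_⟩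
  rw [← tay_eq c h0 h1, ← hcg, mul_inv_cancel_left]

/-- **Hall–Petrescu formula**: for every `m` there are `c_i ∈ γ_i(L)`, `i ≥ 2`, such that
`(ab)^n = a^n b^n c_2^(n choose 2) ⋯ c_(m+1)^(n choose (m+1))` for all `n < m + 2`. -/
theorem hall_petrescu (a b : G) (L : Subgroup G) (ha : a ∈ L) (hb : b ∈ L) (m : ℕ) :
    ∃ c : ℕ → G, (∀ i, c i ∈ L.lowerCentralSeries (i + 1)) ∧
      ∀ n < m + 2, (a * b) ^ n = a ^ n * b ^ n *
        (List.ofFn fun i : Fin m => c i ^ (n.choose (i + 2))).prod := by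
  have hF := lcf_filt L
  obtain ⟨c, hc, hcg⟩ := hF.exists_taylor (poly_abn a b L ha hb) (m + 2)
  have h0 : c 0 = 1 := by
    have h := hcg 0 (by omega)
    rw [tay_zero] at h
    simpa using h.symm
  have h1 : c 1 = 1 := by
    have h := hcg 1 (by omega)
    rw [tay_one c h0] at h
    simpa using h.symm
  refine ⟨fun i => c (i + 2), fun i => hc (i + 2), fun n hn => ?_⟩
  rw [← tay_eq c h0 h1, ← hcg n hn, mul_inv_cancel_left]

/-- **`p`-groups of class less than `p` are regular.** -/
theorem isRegular_of_lcs {p : ℕ} [hp : Fact p.Prime] (hG : IsPGroup p G)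
    (hcl : (⊤ : Subgroup G).lowerCentralSeries (p - 1) = ⊥) : Cfsg.IsRegularPGroup p G := by
  refine ⟨hG, fun a b e => ?_⟩
  set L : Subgroup G := Subgroup.closure ({a, b} : Set G) with hL
  have haL : a ∈ L := Subgroup.subset_closure (by simp)
  have hbL : b ∈ L := Subgroup.subset_closure (by simp)
  have hp2 := hp.out.two_le
  have hm : lcf L ((p - 2) + 2) = ⊥ := by
    rw [show (p - 2) + 2 = (p - 1) + 1 by omega]
    change L.lowerCentralSeries (p - 1) = ⊥
    rw [eq_bot_iff, ← hcl]
    exact Subgroup.lowerCentralSeries_mono (p - 1) le_top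
  obtain ⟨c, hc, hcg⟩ := hall_petrescu_nilp a b L haL hbL (p - 2) hm
  refine ⟨_, ?_, hcg (p ^ e)⟩
  refine Subgroup.list_prod_mem _ ?_
  intro x hx
  rw [List.mem_ofFn] at hx
  obtain ⟨i, rfl⟩ := hx
  have hi := i.2
  -- `p ^ e` divides `(p ^ e) choose (i + 2)`
  have hdvd : p ^ e ∣ (p ^ e).choose ((i : ℕ) + 2) := by
    have h1 : (p ^ e).choose ((i : ℕ) + 2) * ((i : ℕ) + 2) = p ^ e * (p ^ e - 1).choose ((i : ℕ) + 1) := by
      have hpos : 0 < p ^ e := pow_pos hp.out.pos e
      obtain ⟨N, hN⟩ : ∃ N, p ^ e = N + 1 := ⟨p ^ e - 1, by omega⟩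
      rw [hN, Nat.add_sub_cancel]
      exact (Nat.add_one_mul_choose_eq N ((i : ℕ) + 1)).symm
    have h2 : Nat.Coprime (p ^ e) ((i : ℕ) + 2) := by
      apply Nat.Coprime.pow_left
      exact (Nat.Prime.coprime_iff_not_dvd hp.out).mpr
        (Nat.not_dvd_of_pos_of_lt (by omega) (by omega))
    exact h2.dvd_of_dvd_mul_right ⟨_, h1⟩
  obtain ⟨q, hq⟩ := hdvd
  have hci : c i ∈ ⁅L, L⁆ := by
    have h1 := hc i
    have h2 : L.lowerCentralSeries ((i : ℕ) + 1) ≤ L.lowerCentralSeries 1 :=
      L.lowerCentralSeries_antitone (by omega)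
    exact h2 h1
  refine Subgroup.subset_closure ⟨c i ^ q, Subgroup.pow_mem _ hci q, ?_⟩
  rw [hq, ← pow_mul, mul_comm]

end Cfsg.Agent.H541.PolySeq
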