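import Cfsg.Agent.Nodes.Bruhat
import Cfsg.Agent.FastGrp
import Cfsg.Agent.Prune
set_option linter.all false
prune_inst 0x7f00000000000000000000000000000000000000000000000000000000000000000000000000000000000000000000000000000000000000000000000000000000000000000000000000000000000000003fffffffffffffffffffffffffffbeffbdffffffff
open scoped Cfsg.Agent.FastGrp

/-!
# Fusion in the torus of a root group datum is controlled by `N` (helper541)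
-/

set_option autoImplicit false
set_option linter.unusedSectionVars false

namespace Cfsg.Agent.H541.PRegFus

open CoxeterSystem Cfsg.Agent.ChevalleyStructure.CoxeterGeom Cfsg.Agent.Tits.Roots Cfsg.Agent.Tits.Core
  Cfsg.Agent.Tits.RootComb Cfsg.Agent.Nodes.Comb Cfsg.Agent.Nodes.Reps Cfsg.Agent.Nodes.BNOf Cfsg.Agent.Nodes.Bruhat

variable {I W Y : Type*} [Fintype I] [DecidableEq I] [Group W] [Group Y] {M : CoxeterMatrix I}
variable {cs : CoxeterSystem M W} {A : I → I → ℤ} {h : IsCartan M A} {p : ℕ} {T : Subgroup Y} {n : I → Y}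
  {X : (I → ℤ) → Subgroup Y}

/-- **fusion in the torus** -/
theorem fusion [Finite W] [Finite Y] [hp : Fact p.Prime] (R : RGD cs h p T n X)
    (hT : ∀ x ∈ T, ∀ y ∈ T, x * y = y * x) {x g : Y} (hx : x ∈ T) (hg : g ∈ GG cs h T X) (hgx : g * x * g⁻¹ ∈ T) :
    ∃ k ∈ NN cs R.nsys, k * x * k⁻¹ = g * x * g⁻¹ := by
  obtain ⟨w, b₁, hb₁, k, hk, b₂, hb₂, rfl⟩ := (mem_GG R).1 hg
  -- `b₁ = u₁ t₁`, `b₂ = t₂ u₂`
  obtain ⟨t₁, ht₁, u₁, hu₁, e₁⟩ := R.mem_B.1 (inv_mem hb₁)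
  obtain ⟨t₂, ht₂, u₂, hu₂, e₂⟩ := R.mem_B.1 hb₂
  have hb₁' : b₁ = u₁⁻¹ * t₁⁻¹ := by rw [← inv_inv b₁, e₁]; group
  set y := b₁ * k * b₂ * x * (b₁ * k * b₂)⁻¹ with hy
  have hkT : t₁⁻¹ * k ∈ Subgroup.normalizer (T : Set Y) :=
    mul_mem (Subgroup.le_normalizer (inv_mem ht₁)) hk.mem_normalizer
  set m := t₁⁻¹ * k with hm
  have hx' : m * x * m⁻¹ ∈ T := (Subgroup.mem_normalizer_iff.1 hkT x).1 hx
  have hTU := R.T_le_normalizer_U
  have nU : ∀ t ∈ T, ∀ u ∈ RGD.Sup X (RGD.Pos cs h), t * u * t⁻¹ ∈ RGD.Sup X (RGD.Pos cs h) :=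
    fun t ht u hu => (Subgroup.mem_normalizer_iff.1 (hTU ht) u).1 hu
  -- the element of `U`
  set v := t₂ * (u₂ * (x * u₂⁻¹ * x⁻¹)) * t₂⁻¹ with hv
  have hvU : v ∈ RGD.Sup X (RGD.Pos cs h) := nU _ ht₂ _ (mul_mem hu₂ (nU _ hx _ (inv_mem hu₂)))
  have e3 : b₂ * x * b₂⁻¹ = v * x := by
    have h1 : t₂ * x * t₂⁻¹ = x := by rw [hT _ ht₂ _ hx]; group
    calc b₂ * x * b₂⁻¹ = t₂ * (u₂ * (x * u₂⁻¹ * x⁻¹)) * t₂⁻¹ * (t₂ * x * t₂⁻¹) := by rw [e₂]; group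
      _ = v * x := by rw [h1]
  have e4 : u₁ * y * u₁⁻¹ = (m * v * m⁻¹) * (m * x * m⁻¹) := by
    calc u₁ * y * u₁⁻¹ = m * (b₂ * x * b₂⁻¹) * m⁻¹ := by rw [hy, hb₁', hm]; group
      _ = _ := by rw [e3]; group
  -- `m v m⁻¹ ∈ B`
  have hyT : y ∈ T := hgx
  have h5 : m * v * m⁻¹ = (u₁ * (y * u₁⁻¹ * y⁻¹)) * (y * (m * x * m⁻¹)⁻¹) := by
    calc m * v * m⁻¹ = ((m * v * m⁻¹) * (m * x * m⁻¹)) * (m * x * m⁻¹)⁻¹ := by group
      _ = (u₁ * y * u₁⁻¹) * (m * x * m⁻¹)⁻¹ := by rw [e4]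
      _ = _ := by group
  have h6 : u₁ * (y * u₁⁻¹ * y⁻¹) ∈ RGD.Sup X (RGD.Pos cs h) := mul_mem hu₁ (nU _ hyT _ (inv_mem hu₁))
  have h7 : y * (m * x * m⁻¹)⁻¹ ∈ T := mul_mem hyT (inv_mem hx')
  have hB : m * v * m⁻¹ ∈ RGD.B cs h T X := by
    rw [h5]
    exact mul_mem (RGD.U_le_B h6) (RGD.T_le_B h7)
  have hpow : ∃ j : ℕ, (m * v * m⁻¹) ^ p ^ j = 1 := by
    obtain ⟨j, hj⟩ := R.isPGroup_Upos ⟨v, hvU⟩
    refine ⟨j, ?_⟩
    have h8 : v ^ p ^ j = 1 := congrArg Subtype.val hj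
    rw [conj_pow, h8]; group
  obtain ⟨j, hj⟩ := hpow
  have hU := R.mem_U_of_mem_B hB hj
  have h9 : y * (m * x * m⁻¹)⁻¹ ∈ RGD.Sup X (RGD.Pos cs h) := by
    have : y * (m * x * m⁻¹)⁻¹ = (u₁ * (y * u₁⁻¹ * y⁻¹))⁻¹ * (m * v * m⁻¹) := by rw [h5]; group
    rw [this]
    exact mul_mem (inv_mem h6) hU
  have h10 : y * (m * x * m⁻¹)⁻¹ = 1 := by
    obtain ⟨j', hj'⟩ := R.isPGroup_Upos ⟨_, h9⟩
    have h11 : (y * (m * x * m⁻¹)⁻¹) ^ p ^ j' = 1 := congrArg Subtype.val hj'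
    have h12 := orderOf_dvd_of_pow_eq_one h11
    have h13 := Subgroup.orderOf_dvd_natCard _ h7
    have h14 : (Nat.card T).Coprime (p ^ j') := Nat.Coprime.pow_right _ R.tcop
    exact orderOf_eq_one_iff.1 (Nat.eq_one_of_dvd_coprimes h14 h13 h12)
  refine ⟨m, ?_, ?_⟩
  · exact ⟨w, by
      have := (rp_of_mem (cs := cs) (hN := R.nsys) (inv_mem ht₁)).mul hk
      rwa [one_mul] at this⟩
  · rw [mul_inv_eq_one] at h10
    exact h10.symm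

/-- the order of `N` -/
theorem card_NN_le [Finite W] [Finite Y] (R : RGD cs h p T n X) :
    Nat.card ↥(NN cs R.nsys) ≤ Nat.card W * Nat.card ↥T := by
  classical
  choose w hw using fun g : ↥(NN cs R.nsys) => mem_NN.1 g.2
  choose r hr using fun v : W => exists_rp cs R.nsys v
  have hT : ∀ g : ↥(NN cs R.nsys), (r (w g))⁻¹ * (g : Y) ∈ T := fun g => (hr (w g)).unique (hw g)
  rw [← Nat.card_prod]
  refine Nat.card_le_card_of_injective (fun g => (w g, (⟨_, hT g⟩ : ↥T))) ?_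
  intro g g' hgg
  have h1 : w g = w g' := congrArg Prod.fst hgg
  have h2 : (r (w g))⁻¹ * (g : Y) = (r (w g'))⁻¹ * (g' : Y) := congrArg Subtype.val (congrArg Prod.snd hgg)
  rw [h1] at h2
  exact Subtype.ext (mul_left_cancel h2)

theorem T_le_NN (R : RGD cs h p T n X) : T ≤ NN cs R.nsys := fun _ ht => ⟨1, rp_of_mem ht⟩

end Cfsg.Agent.H541.PRegFus
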