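import Cfsg.Agent.H541.PRegTorus_mg
import Cfsg.Agent.H129.CycRow
import Cfsg.Agent.S2121
import Cfsg.Agent.H341.ThreeList_m3
import Cfsg.Agent.Prune
set_option linter.all false
prune_inst 0x7f00000000000000000000000000000000000000000000000000000000000000000000000000000000000000000000000000000000000000000000000000000000000000000000000000000000000000003fffffffffffffffffffffffffffbeffbdffffffff
open scoped Cfsg.Agent.FastGrp

/-!
# `G₂(q)` has `p` orbits of `Aut` on the `p`-regular elements (for S4883, helper541)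
-/

set_option autoImplicit false
set_option linter.unusedSectionVars false

namespace Cfsg.Agent.H541.PRegG2

open Cfsg Cfsg.Lie Cfsg.Agent.H93.PReg Cfsg.Agent.H92.KTools Cfsg.Agent.H541.PRegTorus Cfsg.Agent.H541.PRegArith
open Cfsg.Agent.H129 Cfsg.Agent.H129.TorusChar Cfsg.Agent.H129.CycT Cfsg.Agent.OrdDiv

universe u

section Arith

theorem cast6 {q : ℕ} (hq : 2 ≤ q) : ((q ^ 2 - q + 1 : ℕ) : ℤ) = 1 - (q : ℤ) + (q : ℤ) ^ 2 := by
  have h0 : q ≤ q ^ 2 := by nlinarith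
  push_cast [Nat.cast_sub h0]; ring

theorem cast3 {q : ℕ} : ((q ^ 2 + q + 1 : ℕ) : ℤ) = 1 + (q : ℤ) + (q : ℤ) ^ 2 := by
  push_cast; ring

theorem not_dvd_of_zmod {N r : ℕ} [NeZero r] {P : ℤ → ℤ} {q : ℕ} (hN : (N : ℤ) = P q)
    (hP : ∀ x y : ℤ, (r : ℤ) ∣ x - y → (r : ℤ) ∣ P x - P y)
    (h : ∀ i : ℕ, i < r → ¬ (r : ℤ) ∣ P i) : ¬ r ∣ N := by
  intro hd
  have h1 : (r : ℤ) ∣ P q := by rw [← hN]; exact Int.natCast_dvd_natCast.2 hd
  have h2 : (r : ℤ) ∣ ((q % r : ℕ) : ℤ) - (q : ℤ) := by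
    have := Nat.mod_add_div q r
    refine ⟨-((q / r : ℕ) : ℤ), ?_⟩
    have h3 : ((q % r : ℕ) : ℤ) + (r : ℤ) * ((q / r : ℕ) : ℤ) = (q : ℤ) := by exact_mod_cast this
    linarith only [h3]
  have h3 := hP _ _ h2
  refine h (q % r) (Nat.mod_lt _ (Nat.pos_of_ne_zero (NeZero.ne r))) ?_
  have : P ((q % r : ℕ) : ℤ) = (P ((q % r : ℕ) : ℤ) - P q) + P q := by ring
  rw [this]
  exact dvd_add h3 h1

theorem poly6 (x y r : ℤ) (h : r ∣ x - y) : r ∣ (1 - x + x ^ 2) - (1 - y + y ^ 2) := by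
  have : (1 - x + x ^ 2) - (1 - y + y ^ 2) = (x - y) * (x + y - 1) := by ring
  rw [this]; exact h.mul_right _

theorem poly3 (x y r : ℤ) (h : r ∣ x - y) : r ∣ (1 + x + x ^ 2) - (1 + y + y ^ 2) := by
  have : (1 + x + x ^ 2) - (1 + y + y ^ 2) = (x - y) * (x + y + 1) := by ring
  rw [this]; exact h.mul_right _

theorem N6_not {q : ℕ} (hq : 2 ≤ q) : ¬ 2 ∣ q ^ 2 - q + 1 ∧ ¬ 5 ∣ q ^ 2 - q + 1 ∧ ¬ 9 ∣ q ^ 2 - q + 1 := by
  refine ⟨?_, ?_, ?_⟩
  · refine not_dvd_of_zmod (P := fun x => 1 - x + x ^ 2) (cast6 hq) (fun x y h => poly6 x y _ h) ?_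
    decide
  · refine not_dvd_of_zmod (P := fun x => 1 - x + x ^ 2) (cast6 hq) (fun x y h => poly6 x y _ h) ?_
    decide
  · refine not_dvd_of_zmod (P := fun x => 1 - x + x ^ 2) (cast6 hq) (fun x y h => poly6 x y _ h) ?_
    decide

theorem N3_not {q : ℕ} : ¬ 2 ∣ q ^ 2 + q + 1 ∧ ¬ 5 ∣ q ^ 2 + q + 1 ∧ ¬ 9 ∣ q ^ 2 + q + 1 := by
  refine ⟨?_, ?_, ?_⟩
  · refine not_dvd_of_zmod (P := fun x => 1 + x + x ^ 2) cast3 (fun x y h => poly3 x y _ h) ?_
    decide
  · refine not_dvd_of_zmod (P := fun x => 1 + x + x ^ 2) cast3 (fun x y h => poly3 x y _ h) ?_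
    decide
  · refine not_dvd_of_zmod (P := fun x => 1 + x + x ^ 2) cast3 (fun x y h => poly3 x y _ h) ?_
    decide

end Arith

section Tor

variable {F : Type u} [Field F] [Fintype F] {q : ℕ}

/-- the torus of order `q² - q + 1` -/
theorem tor6 (hF : Fintype.card F = q) (hq : 3 ≤ q) {M : ℕ}
    (hS : Nat.card ↥(chevG2.group F) = (q ^ 2 - q + 1) * M)
    (hM : (M : ℤ) = (q : ℤ) ^ 6 * ((q : ℤ) - 1) ^ 2 * ((q : ℤ) + 1) ^ 2 * ((q : ℤ) ^ 2 + q + 1)) :
    Iso ↥(chevG2.group F) (q ^ 2 - q + 1) 3 6 := by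
  have hfW : Finite CoxeterMatrix.G₂.Group := Nat.finite_of_card_ne_zero (by rw [cardW_G2]; norm_num)
  have hN : ((q ^ 2 - q + 1 : ℕ) : ℤ) = 1 - (q : ℤ) + (q : ℤ) ^ 2 := cast6 (by omega)
  obtain ⟨h2, h5, h9⟩ := N6_not (q := q) (by omega)
  have h3q : 3 < q ^ 2 - q + 1 := by
    have : ((3 : ℕ) : ℤ) < ((q ^ 2 - q + 1 : ℕ) : ℤ) := by
      rw [hN]; push_cast; have : (3 : ℤ) ≤ q := by exact_mod_cast hq
      nlinarith only [hq]
    exact_mod_cast this
  obtain ⟨T, hc, hT1, hT2, hT3, -⟩ := UntwT.untw_T typeG2 CoxeterMatrix.G₂.toCoxeterSystem (by norm_num) hF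
    TorusChar.invC_G2 one_ne_zero DataG2h.hA DataG2h.chainOK DataG2h.cycOK DataG2h.rootOK (N := q ^ 2 - q + 1)
    (by rw [DataG2h.fN_eq, hN]) (UntwData.coprime_of_eq (a := -1 + (q : ℤ)) (by rw [hN]; ring)) (d := 1) (Or.inl rfl)
  rw [one_mul] at hT2
  have hm : Nat.card ↥T = q ^ 2 - q + 1 := Nat.dvd_antisymm hT1 hT2
  have hcent : ∀ y ∈ T, y ^ 3 ≠ 1 → Subgroup.centralizer {y} = T := by
    refine cent_of_prime hc fun k hk hk3 => ?_
    rw [hm] at hk
    obtain ⟨r, hr, hrk, hr3⟩ := exists_prime_ne (t := 3) (N := q ^ 2 - q + 1) (by omega) hk (by norm_num only []; exact h9) hk3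
    have hg := good_G2_6 hN hr (hrk.trans hk) hr3
    exact ⟨r, hr, hrk, hT3 r hr hg.1 hg.2⟩
  obtain ⟨s, hs, hsN, hs7⟩ := exists_prime_ge_seven h2 h5 h9 h3q
  refine Iso.of_sylow hc hm hcent hS hs hsN (fun h => ?_) ?_ (by omega)
  · have := Nat.le_of_dvd (by norm_num) h
    omega
  · have h6 : (s : ℤ) ∣ 1 - (q : ℤ) + (q : ℤ) ^ 2 := by
      rw [← hN]; exact Int.natCast_dvd_natCast.2 hsN
    have h7 : (s : ℤ) ∣ (M : ℤ) - 6 := by
      rw [hM]
      refine h6.trans ?_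
      refine ⟨(q : ℤ) ^ 10 + 2 * q ^ 9 - 4 * q ^ 7 - 5 * q ^ 6 + 6 * q ^ 4 + 6 * q ^ 3 - 6 * q - 6, ?_⟩
      ring
    exact (Nat.modEq_iff_dvd.2 (by
      have := (dvd_neg.2 h7); rw [neg_sub] at this; exact_mod_cast this))

/-- the torus of order `q² + q + 1` -/
theorem tor3 (hF : Fintype.card F = q) (hq : 3 ≤ q) {M : ℕ}
    (hS : Nat.card ↥(chevG2.group F) = (q ^ 2 + q + 1) * M)
    (hM : (M : ℤ) = (q : ℤ) ^ 6 * ((q : ℤ) - 1) ^ 2 * ((q : ℤ) + 1) ^ 2 * ((q : ℤ) ^ 2 - q + 1)) :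
    Iso ↥(chevG2.group F) (q ^ 2 + q + 1) 3 6 := by
  have hfW : Finite CoxeterMatrix.G₂.Group := Nat.finite_of_card_ne_zero (by rw [cardW_G2]; norm_num)
  have hN : ((q ^ 2 + q + 1 : ℕ) : ℤ) = 1 + (q : ℤ) + (q : ℤ) ^ 2 := cast3
  obtain ⟨h2, h5, h9⟩ := N3_not (q := q)
  have h3q : 3 < q ^ 2 + q + 1 := by linarith only [hq, _root_.sq_nonneg (↑q - 1 : ℤ)]
  obtain ⟨T, hc, hT1, hT2, hT3, -⟩ := UntwT.untw_T typeG2 CoxeterMatrix.G₂.toCoxeterSystem (by norm_num) hF
    TorusChar.invC_G2 one_ne_zero DataG2.hA DataG2.chainOK DataG2.cycOK DataG2.rootOK (N := q ^ 2 + q + 1)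
    (by rw [DataG2.fN_eq, hN]) (UntwData.coprime_of_eq (a := 1 + (q : ℤ)) (by rw [hN]; ring)) (d := 1) (Or.inl rfl)
  rw [one_mul] at hT2
  have hm : Nat.card ↥T = q ^ 2 + q + 1 := Nat.dvd_antisymm hT1 hT2
  have hcent : ∀ y ∈ T, y ^ 3 ≠ 1 → Subgroup.centralizer {y} = T := by
    refine cent_of_prime hc fun k hk hk3 => ?_
    rw [hm] at hk
    obtain ⟨r, hr, hrk, hr3⟩ := exists_prime_ne (t := 3) (N := q ^ 2 + q + 1) (by omega) hk (by norm_num; exact h9) hk3
    have hg := good_G2_3 hN hr (hrk.trans hk) hr3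
    exact ⟨r, hr, hrk, hT3 r hr hg.1 hg.2⟩
  obtain ⟨s, hs, hsN, hs7⟩ := exists_prime_ge_seven h2 h5 h9 h3q
  refine Iso.of_sylow hc hm hcent hS hs hsN (fun h => ?_) ?_ (by omega)
  · have := Nat.le_of_dvd (by norm_num) h
    omega
  · have h6 : (s : ℤ) ∣ 1 + (q : ℤ) + (q : ℤ) ^ 2 := by
      rw [← hN]; exact Int.natCast_dvd_natCast.2 hsN
    have h7 : (s : ℤ) ∣ (M : ℤ) - 6 := by
      rw [hM]
      refine h6.trans ?_
      refine ⟨(q : ℤ) ^ 10 - 2 * q ^ 9 + 4 * q ^ 7 - 5 * q ^ 6 + 6 * q ^ 4 - 6 * q ^ 3 + 6 * q - 6, ?_⟩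
      ring
    exact (Nat.modEq_iff_dvd.2 (by
      have := (dvd_neg.2 h7); rw [neg_sub] at this; exact_mod_cast this))

end Tor

section Row

theorem card_eq {q : ℕ} (hq : 2 ≤ q) : q ^ 6 * ((q ^ 2 - 1) * (q ^ 6 - 1)) =
    q ^ 6 * ((q - 1) ^ 2 * ((q + 1) ^ 2 * ((q ^ 2 + q + 1) * (q ^ 2 - q + 1)))) := by
  have h0 : q ≤ q ^ 2 := by nlinarith
  have h1 : 1 ≤ q ^ 2 := Nat.one_le_pow _ _ (by omega)
  have h2 : 1 ≤ q ^ 6 := Nat.one_le_pow _ _ (by omega)
  zify [h0, h1, h2, (by omega : 1 ≤ q)]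
  ring

theorem bound {q p : ℕ} (hq : 3 ≤ q) (hp : p.Prime) (h5 : 5 ≤ p)
    (hd : p ^ 2 ∣ q ^ 6 * ((q ^ 2 - 1) * (q ^ 6 - 1))) : p ≤ q + 1 := by
  rw [card_eq (by omega)] at hd
  by_contra hlt
  push Not at hlt
  have h1 : ¬ p ∣ q := fun h => by have := Nat.le_of_dvd (by omega) h; omega
  have h2 : ¬ p ∣ q - 1 := fun h => by have := Nat.le_of_dvd (by omega) h; omega
  have h3 : ¬ p ∣ q + 1 := fun h => by have := Nat.le_of_dvd (by omega) h; omega
  have c1 : (p ^ 2).Coprime (q ^ 6) := Nat.Coprime.pow _ _ ((Nat.Prime.coprime_iff_not_dvd hp).2 h1)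
  have c2 : (p ^ 2).Coprime ((q - 1) ^ 2) := Nat.Coprime.pow _ _ ((Nat.Prime.coprime_iff_not_dvd hp).2 h2)
  have c3 : (p ^ 2).Coprime ((q + 1) ^ 2) := Nat.Coprime.pow _ _ ((Nat.Prime.coprime_iff_not_dvd hp).2 h3)
  have hd1 := c3.dvd_of_dvd_mul_left (c2.dvd_of_dvd_mul_left (c1.dvd_of_dvd_mul_left hd))
  have hle : ∀ N, N ≤ q ^ 2 + q + 1 → 0 < N → ¬ p ^ 2 ∣ N := by
    intro N hN hN0 h
    have h4 := Nat.le_of_dvd hN0 h
    nlinarith only [hlt, hN, h4]
  by_cases h4 : p ∣ q ^ 2 + q + 1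
  · have h6 : ¬ p ∣ q ^ 2 - q + 1 := by
      intro h
      have h7 := (Nat.dvd_sub h4 h)
      have h8 : q ^ 2 + q + 1 - (q ^ 2 - q + 1) = 2 * q := by
        have : q ≤ q ^ 2 := by nlinarith only []
        (clear * - this; omega)
      rw [h8] at h7
      rcases hp.dvd_mul.1 h7 with h9 | h9
      · have := Nat.le_of_dvd (by norm_num) h9; omega
      · exact h1 h9
    have c4 : (p ^ 2).Coprime (q ^ 2 - q + 1) := Nat.Coprime.pow_left _ ((Nat.Prime.coprime_iff_not_dvd hp).2 h6)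
    exact hle _ le_rfl (by omega) (c4.dvd_of_dvd_mul_right hd1)
  · have c4 : (p ^ 2).Coprime (q ^ 2 + q + 1) := Nat.Coprime.pow_left _ ((Nat.Prime.coprime_iff_not_dvd hp).2 h4)
    exact hle (q ^ 2 - q + 1) (by omega) (by omega) (c4.dvd_of_dvd_mul_left hd1)

/-- the general case -/
theorem general {S : Type u} [Group S] [Finite S] {q p o : ℕ} (hq : 4 ≤ q) (hp : p.Prime) (h5 : 5 ≤ p)
    (h3 : Iso S (q ^ 2 + q + 1) 3 6) (h6 : Iso S (q ^ 2 - q + 1) 3 6) (ho : Nat.card (Out S) ≤ o)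
    (hpq : p ≤ q + 1) (hoq : 6 * o ≤ q - 1) : MO (Reg p) p S := by
  have h0 : q ≤ q ^ 2 := by nlinarith only []
  by_cases hp3 : p ∣ q ^ 2 + q + 1
  · have hp6 : ¬ p ∣ q ^ 2 - q + 1 := by
      intro h
      have h7 := (Nat.dvd_sub hp3 h)
      have h8 : q ^ 2 + q + 1 - (q ^ 2 - q + 1) = 2 * q := by omega
      rw [h8] at h7
      rcases hp.dvd_mul.1 h7 with h9 | h9
      · have := Nat.le_of_dvd (by norm_num) h9; omega
      · have h10 : p ∣ 1 := by
          have h11 : p ∣ q ^ 2 + q := Dvd.dvd.add (h9.trans (dvd_pow_self q two_ne_zero)) h9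
          exact (Nat.dvd_add_right h11).1 hp3
        exact hp.one_lt.ne' (Nat.dvd_one.1 h10)
    have hpq' : p ≤ q := by
      rcases Nat.lt_or_ge q p with h | h
      · exfalso
        have h7 : p = q + 1 := by omega
        have h8 : q ^ 2 + q + 1 = q * (q + 1) + 1 := by ring
        rw [h8, ← h7] at hp3
        have h10 : p ∣ 1 := (Nat.dvd_add_right (dvd_mul_left p q)).1 hp3
        exact hp.one_lt.ne' (Nat.dvd_one.1 h10)
      · exact h
    refine h6.MO (by norm_num) ho dvd_rfl (fun k hk _ hpk => hp6 (hpk.trans hk)) ?_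
    have h7 : (p - 1) * (6 * o) ≤ (q - 1) * (q - 1) := Nat.mul_le_mul (by omega) hoq
    obtain ⟨t, rfl⟩ : ∃ t, q = t + 4 := ⟨q - 4, by omega⟩
    have h8 : (t + 4 - 1) * (t + 4 - 1) = t ^ 2 + 6 * t + 9 := by
      rw [show t + 4 - 1 = t + 3 by omega]; ring
    have h9 : (t + 4) ^ 2 = t ^ 2 + 8 * t + 16 := by ring
    rw [h8] at h7
    rw [h9]
    (clear * - h0 h7; omega)
  · refine h3.MO (by norm_num) ho dvd_rfl (fun k hk _ hpk => hp3 (hpk.trans hk)) ?_
    have h7 : (p - 1) * (6 * o) ≤ q * (q - 1) := Nat.mul_le_mul (by omega) hoq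
    obtain ⟨t, rfl⟩ : ∃ t, q = t + 4 := ⟨q - 4, by omega⟩
    have h8 : (t + 4) * (t + 4 - 1) = t ^ 2 + 7 * t + 12 := by
      rw [show t + 4 - 1 = t + 3 by omega]; ring
    have h9 : (t + 4) ^ 2 = t ^ 2 + 8 * t + 16 := by ring
    rw [h8] at h7
    rw [h9]
    (clear * - h7; omega)

theorem two_pow {f : ℕ} (h : 5 ≤ f) : 6 * f + 1 ≤ 2 ^ f := by
  induction f, h using Nat.le_induction with
  | base => norm_num
  | succ n hn ih => rw [pow_succ]; omega

theorem three_pow {f : ℕ} (h : 4 ≤ f) : 12 * f + 1 ≤ 3 ^ f := by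
  induction f, h using Nat.le_induction with
  | base => norm_num
  | succ n hn ih => rw [pow_succ]; omega

theorem five_pow {f : ℕ} (h : 2 ≤ f) : 6 * f + 1 ≤ 5 ^ f := by
  induction f, h using Nat.le_induction with
  | base => norm_num
  | succ n hn ih => rw [pow_succ]; omega

theorem small {r f : ℕ} (hr : r.Prime) (hf : 0 < f) (hq : 3 ≤ r ^ f) :
    6 * (if r = 3 then 2 * f else f) ≤ r ^ f - 1 ∧ 4 ≤ r ^ f ∨ r = 5 ∧ f = 1 ∨ r = 2 ∧ f = 2 ∨ r = 2 ∧ f = 3 ∨
      r = 2 ∧ f = 4 ∨ r = 3 ∧ f = 1 ∨ r = 3 ∧ f = 2 ∨ r = 3 ∧ f = 3 := by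
  have hr2 := hr.two_le
  rcases Nat.lt_or_ge r 4 with h4 | h4
  · interval_cases r
    · rcases Nat.lt_or_ge f 5 with h | h
      · interval_cases f <;> simp_all only [_root_.Std.le_refl, _root_.Nat.reduceLT, _root_.Order.lt_one_iff, _root_.pow_one, _root_.Nat.reduceLeDiff, _root_.Order.lt_two_iff, _root_.zero_le, _root_.Nat.reducePow, _root_.Nat.reduceEqDiff, ↓ _root_.reduceIte, _root_.Nat.reduceMul, _root_.Nat.add_one_sub_one, _root_.and_true, _root_.OfNat.ofNat_ne_one, _root_.and_self, _root_.and_false, _root_.or_self, _root_.or_false, _root_.or_true, _root_.Nat.ofNat_pos, _root_.Nat.succ_ne_self, _root_.Nat.lt_add_one]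
      · left
        rw [if_neg (by norm_num)]
        have := two_pow h
        omega
    · rcases Nat.lt_or_ge f 4 with h | h
      · interval_cases f <;> simp_all only [_root_.Nat.reduceLeDiff, _root_.Nat.lt_add_one, _root_.Order.lt_one_iff, _root_.pow_one, _root_.Std.le_refl, _root_.Nat.one_lt_ofNat, ↓ _root_.reduceIte, _root_.mul_one, _root_.Nat.reduceMul, _root_.Nat.add_one_sub_one, _root_.and_self, _root_.Nat.reduceEqDiff, _root_.and_true, _root_.Nat.succ_ne_self, _root_.OfNat.one_ne_ofNat, _root_.and_false, _root_.or_self, _root_.or_false, _root_.or_true, _root_.Order.lt_two_iff, _root_.zero_le, _root_.Nat.reducePow, _root_.Nat.reduceLT, _root_.OfNat.ofNat_ne_one, _root_.Nat.ofNat_pos]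
      · left
        rw [if_pos rfl]
        have := three_pow h
        omega
  · have hr5 : 5 ≤ r := by
      rcases Nat.lt_or_ge r 5 with h | h
      · have : r = 4 := by omega
        subst this
        exact absurd hr (by norm_num)
      · exact h
    rcases Nat.lt_or_ge f 2 with h | h
    · have hf1 : f = 1 := by omega
      subst hf1
      rw [if_neg (by omega), pow_one]
      rcases Nat.lt_or_ge r 7 with h7 | h7
      · right; left
        have : r = 5 ∨ r = 6 := by omega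
        rcases this with rfl | rfl
        · exact ⟨rfl, rfl⟩
        · exact absurd hr (by norm_num)
      · left; omega
    · left
      rw [if_neg (by omega)]
      have h1 := five_pow h
      have h2 : 5 ^ f ≤ r ^ f := Nat.pow_le_pow_left hr5 f
      omega

/-- **the row of `G₂(q)`** -/
theorem row_g2 {S : Type u} [Group S] [Finite S] {q : ℕ} (h : Cfsg.Agent.H436.IsNamed (.g2 q) S) : Row S := by
  obtain ⟨F, _, _, hF, ⟨e⟩⟩ := h.real
  obtain ⟨hq3, hqp⟩ := h.cond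
  have hcard : Nat.card ↥(chevG2.group F) = q ^ 6 * ((q ^ 2 - 1) * (q ^ 6 - 1)) := by
    rw [← Nat.card_congr e.toEquiv]
    have := h.eq
    have h2 : Cfsg.Agent.H436.den (.g2 q) = 1 := rfl
    rw [h2, one_mul] at this
    exact this
  refine Row.congr e.symm ?_
  have hfin : Finite ↥(chevG2.group F) := inferInstance
  obtain ⟨r, f, hr, hf, hrf⟩ := (isPrimePow_nat_iff q).1 hqp
  have : Fact r.Prime := ⟨hr⟩
  have hch : CharP F r := charP_of_card_eq_prime_pow (hF.trans hrf.symm)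
  have hout := Cfsg.Agent.S2121.result (F := F) r f (hF.trans hrf.symm) (by rw [hrf]; exact hq3)
  have h3 : Iso ↥(chevG2.group F) (q ^ 2 + q + 1) 3 6 := by
    refine tor3 hF hq3 (M := q ^ 6 * ((q - 1) ^ 2 * ((q + 1) ^ 2 * (q ^ 2 - q + 1)))) ?_ ?_
    · rw [hcard, card_eq (by omega)]; ring
    · have h0 : q ≤ q ^ 2 := by nlinarith only []
      push_cast [Nat.cast_sub h0, Nat.cast_sub (show 1 ≤ q by omega)]
      ring
  have h6 : Iso ↥(chevG2.group F) (q ^ 2 - q + 1) 3 6 := by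
    refine tor6 hF hq3 (M := q ^ 6 * ((q - 1) ^ 2 * ((q + 1) ^ 2 * (q ^ 2 + q + 1)))) ?_ ?_
    · rw [hcard, card_eq (by omega)]; ring
    · push_cast [Nat.cast_sub (show 1 ≤ q by omega)]
      ring
  intro p hp h5 hpd
  rw [hcard] at hpd
  have hpq := bound hq3 hp h5 hpd
  rcases small hr hf (by rw [hrf]; exact hq3) with h | h | h | h | h | h | h | h
  · rw [hrf] at h
    exact general h.2 hp h5 h3 h6 hout.le hpq h.1
  all_goals
    obtain ⟨rfl, rfl⟩ := h
    norm_num at hrf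
    subst hrf
  · -- q = 5
    interval_cases p
    · exact mo_primes {1, 2, 3, 7, 31} (fun k hk => by
        rw [hcard]
        simp only [Finset.mem_insert, Finset.mem_singleton] at hk
        rcases hk with rfl | rfl | rfl | rfl | rfl <;> norm_num) (by decide)
    · exact absurd hp (by norm_num)
  · -- q = 4
    interval_cases p
    exact mo_primes {1, 2, 3, 7, 13} (fun k hk => by
        rw [hcard]
        simp only [Finset.mem_insert, Finset.mem_singleton] at hk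
        rcases hk with rfl | rfl | rfl | rfl | rfl <;> norm_num) (by decide)
  · -- q = 8
    have h7 : p = 7 := by
      interval_cases p <;> first | rfl | (exfalso; revert hp; norm_num; done) | (exfalso; revert hpd; norm_num)
    subst h7
    have h8 : MO {k | k ∣ 73 ∧ ¬ k ∣ 3} 4 ↥(chevG2.group F) := by
      refine h3.MO (by norm_num) hout.le dvd_rfl (fun k hk hk3 => ⟨hk, hk3⟩) (by norm_num)
    refine mo_add (L := {1, 2, 3}) (fun k hk => ?_) (by decide) ?_ h8 ?_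
    · simp only [Finset.mem_insert, Finset.mem_singleton] at hk
      rcases hk with rfl | rfl | rfl
      · exact hasOrd_one _
      · exact hasOrd_prime Nat.prime_two (by rw [hcard]; norm_num)
      · exact hasOrd_prime Nat.prime_three (by rw [hcard]; norm_num)
    · intro k hk
      simp only [Finset.mem_insert, Finset.mem_singleton] at hk
      rcases hk with rfl | rfl | rfl <;> simp <;> norm_num
    · rintro k ⟨hk, -⟩ h
      have := h.trans hk
      norm_num at this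
  · -- q = 16
    have h7 : p = 5 ∨ p = 17 := by
      interval_cases p <;> first | (left; rfl) | (right; rfl) | (exfalso; revert hp; norm_num; done) |
        (exfalso; revert hpd; norm_num)
    rcases h7 with rfl | rfl
    · exact mo_primes {1, 2, 3, 7, 13} (fun k hk => by
        rw [hcard]
        simp only [Finset.mem_insert, Finset.mem_singleton] at hk
        rcases hk with rfl | rfl | rfl | rfl | rfl <;> norm_num) (by decide)
    · have h8 : MO {k | k ∣ 273 ∧ ¬ k ∣ 3} 12 ↥(chevG2.group F) :=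
        h3.MO (by norm_num) hout.le dvd_rfl (fun k hk hk3 => ⟨hk, hk3⟩) (by norm_num)
      have h9 : MO {k | k ∣ 241 ∧ ¬ k ∣ 3} 5 ↥(chevG2.group F) :=
        h6.MO (by norm_num) hout.le dvd_rfl (fun k hk hk3 => ⟨hk, hk3⟩) (by norm_num)
      refine (MO.add (Set.disjoint_left.2 ?_) h8 h9).mono ?_ le_rfl
      · rintro k ⟨hk, hk3⟩ ⟨hk', -⟩
        have := Nat.dvd_gcd hk hk'
        norm_num at this
        rw [this] at hk3
        exact hk3 (one_dvd 3)
      · rintro k (⟨hk, -⟩ | ⟨hk, -⟩) h <;>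
        · have := h.trans hk
          norm_num at this
  · -- q = 3
    omega
  · -- q = 9
    have h7 : p = 5 := by
      interval_cases p <;> first | rfl | (exfalso; revert hp; norm_num; done) | (exfalso; revert hpd; norm_num)
    subst h7
    exact mo_primes {1, 2, 3, 7, 13} (fun k hk => by
        rw [hcard]
        simp only [Finset.mem_insert, Finset.mem_singleton] at hk
        rcases hk with rfl | rfl | rfl | rfl | rfl <;> norm_num) (by decide)
  · -- q = 27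
    have h7 : p = 7 ∨ p = 13 := by
      interval_cases p <;> first | (left; rfl) | (right; rfl) | (exfalso; revert hp; norm_num; done) |
        (exfalso; revert hpd; norm_num)
    rcases h7 with rfl | rfl
    · exact mo_primes {1, 2, 3, 13, 19, 37, 757} (fun k hk => by
        rw [hcard]
        simp only [Finset.mem_insert, Finset.mem_singleton] at hk
        rcases hk with rfl | rfl | rfl | rfl | rfl | rfl | rfl <;> norm_num) (by decide)
    · refine h3.MO (by norm_num) hout.le dvd_rfl (fun k hk _ hpk => ?_) (by norm_num)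
      have := hpk.trans hk
      norm_num at this

end Row

end Cfsg.Agent.H541.PRegG2
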