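import Mathlib
import Cfsg.Agent.H518.SURow_m3
import Cfsg.Agent.H77.Final
import Cfsg.Agent.ClassicalGeometry.GUBasic
import Cfsg.Agent.S2148
import Cfsg.Agent.S2149
import Cfsg.Agent.S2150
import Cfsg.Agent.Prune
set_option linter.all false
prune_inst 0x7ffeadfcebbcbfffffff7e7ffed9fffc3b901fffe6dffd4bffe863ff0b9f33800be5fbaf8df0d0fe0ef7e29410b87853fbffeeffea6fdc7ffffd5ff45ffbee5ff5f7bd0851d69c341fbc2fffe3f0778e7f3fffffffffffffffffffffffffffbeffffffffffff
open scoped Cfsg.Agent.FastGrp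

/-!
# S3943: the counting data of the groups `PSU_n(q)` (helper541)
-/

set_option autoImplicit false

namespace Cfsg.Agent.H541.CntPsu

open Module Cfsg.Agent.H518.DghpFix Cfsg.Agent.H518.DghpPrim Cfsg.Agent.H518.DghpMat Cfsg.Agent.H518.SU
  Cfsg.Agent.H489.AS

universe u v w

section Lin

variable {F : Type u} [Field F] [Fintype F] {V : Type v} [AddCommGroup V] [Module F V] [FiniteDimensional F V]
  {G : Type w} [Group G]

/-- the dimension of the fixed space of an element of order `p` -/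
theorem finrank_fixS_add_le {f : V →ₗ[F] V} {p : ℕ} (hp : p.Prime) (hpF : ¬ p ∣ Fintype.card F) (hf : f ^ p = 1)
    (hf1 : f ≠ 1) : finrank F (fixS f) + orderOf ((Fintype.card F : ℕ) : ZMod p) ≤ finrank F V := by
  have h1 := finrank_fix (k := 1) hp hpF (by rwa [pow_one]) ⊤ (fun v _ => trivial)
  rw [top_inf_eq, finrank_top] at h1
  have h2 : finrank F (fixS f) < finrank F V := by
    apply Submodule.finrank_lt
    intro h
    exact hf1 (fixS_eq_top_iff.1 h)
  have h3 := Nat.le_of_dvd (by omega) h1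
  omega

/-- `K1 = 1` if there are no fixed points -/
theorem K1_eq_bot_of_fix (φ : G →* (V →ₗ[F] V)) (hφ : Function.Injective φ) {z : G}
    (h : fixS (φ z) = ⊥) : K1 φ z = ⊥ := by
  rw [Subgroup.eq_bot_iff_forall]
  rintro g ⟨-, hg⟩
  have hinj : Function.Injective (φ z - (1 : V →ₗ[F] V)) := by
    rw [← LinearMap.ker_eq_bot, eq_bot_iff]
    intro v hv
    rw [LinearMap.mem_ker, LinearMap.sub_apply, Module.End.one_apply, sub_eq_zero] at hv
    rw [← h]
    exact hv
  have hsurj := LinearMap.surjective_of_injective hinj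
  apply hφ
  rw [map_one]
  refine LinearMap.ext fun v => ?_
  obtain ⟨w, rfl⟩ := hsurj v
  exact hg w

/-- the sum of the powers is fixed, and `K1` acts through it -/
theorem K1_sum {φ : G →* (V →ₗ[F] V)} {z g : G} (hg : g ∈ K1 φ z) {p : ℕ} (hz : (φ z) ^ p = 1) (v : V) :
    ∃ w ∈ fixS (φ z), (p : F) • (φ g v - v) = φ g w - w := by
  have hrange : ∀ (i : ℕ) (v : V), φ g ((φ z ^ i) v - v) = (φ z ^ i) v - v := by
    intro i
    induction i with
    | zero => intro v; simp only [_root_.pow_zero, _root_.Module.End.one_apply, _root_.sub_self, _root_.map_zero]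
    | succ i ih =>
      intro v
      have h1 : (φ z ^ (i + 1)) v - v = (φ z ((φ z ^ i) v) - (φ z ^ i) v) + ((φ z ^ i) v - v) := by
        rw [pow_succ']
        show φ z ((φ z ^ i) v) - v = _
        abel
      rw [h1, map_add, ih, hg.2]
  refine ⟨∑ i ∈ Finset.range p, (φ z ^ i) v, sum_pow_mem_fixS hz v, ?_⟩
  rw [map_sum, ← Finset.sum_sub_distrib]
  have h2 : ∀ i ∈ Finset.range p, φ g ((φ z ^ i) v) - (φ z ^ i) v = φ g v - v := by
    intro i _
    have h3 := hrange i v
    rw [map_sub] at h3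
    have h4 : φ g ((φ z ^ i) v) = (φ z ^ i) v - v + φ g v := by rw [← h3]; abel
    rw [h4]; abel
  rw [Finset.sum_congr rfl h2, Finset.sum_const, Finset.card_range, Nat.cast_smul_eq_nsmul]

end Lin

section SU

variable {F : Type} [Field F] [Fintype F] {n q : ℕ}

/-- `K1 = 1` in `SU_n` if the fixed space has dimension at most one -/
theorem K1_su {p : ℕ} (hp : p.Prime) (hpF : ¬ p ∣ Fintype.card F) {z : Cfsg.SU n F q} (hz : z ^ p = 1)
    (h : finrank F (fixS (matRep (suHom n F q) z)) ≤ 1) : K1 (matRep (suHom n F q)) z = ⊥ := by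
  classical
  set φ := matRep (suHom n F q) with hφdef
  have hφ : Function.Injective φ := matRep_injective (suHom_injective _ _ _)
  rcases Nat.eq_zero_or_pos (finrank F (fixS (φ z))) with h0 | hpos
  · exact K1_eq_bot_of_fix φ hφ (Submodule.finrank_eq_zero.1 h0)
  have h1 : finrank F (fixS (φ z)) = 1 := by omega
  obtain ⟨v₀, hv₀, hv₀0, hspan⟩ : ∃ v₀ ∈ fixS (φ z), v₀ ≠ 0 ∧ ∀ w ∈ fixS (φ z), ∃ c : F, w = c • v₀ := by
    obtain ⟨⟨v₀, hv₀⟩, hne, hs⟩ := finrank_eq_one_iff'.1 h1
    refine ⟨v₀, hv₀, fun h => hne (Subtype.ext h), fun w hw => ?_⟩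
    obtain ⟨c, hc⟩ := hs ⟨w, hw⟩
    exact ⟨c, (congrArg Subtype.val hc).symm⟩
  have hp0 : (p : F) ≠ 0 := Cfsg.Agent.H518.DghpSep.cast_ne_zero_of_not_dvd hp hpF
  rw [Subgroup.eq_bot_iff_forall]
  intro g hg
  have hzp : φ z ^ p = 1 := by rw [← map_pow, hz, map_one]
  have hgz : φ g * φ z = φ z * φ g := by rw [← map_mul, hg.1, map_mul]
  -- `g` acts as a scalar on the fixed space
  have hfix : ∀ w ∈ fixS (φ z), φ g w ∈ fixS (φ z) := fixS_invariant hgz.symm
  obtain ⟨c, hc⟩ := hspan _ (hfix v₀ hv₀)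
  -- the image of `g - 1`
  have himg : ∀ v : Fin n → F, ∃ d : F, φ g v = v + d • v₀ := by
    intro v
    obtain ⟨w, hw, hwv⟩ := K1_sum hg hzp v
    obtain ⟨d, rfl⟩ := hspan w hw
    rw [map_smul, hc, smul_smul, ← sub_smul] at hwv
    refine ⟨(p : F)⁻¹ * (d * c - d), ?_⟩
    rw [mul_smul, ← hwv, smul_smul, inv_mul_cancel₀ hp0, one_smul]
    abel
  choose d hd using fun j : Fin n => himg (Pi.single j 1)
  -- the matrix
  have hM : (suHom n F q g : Matrix (Fin n) (Fin n) F) =
      1 + Matrix.replicateCol Unit v₀ * Matrix.replicateRow Unit d := by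
    ext i j
    have h2 := congrFun (hd j) i
    have h3 : φ g (Pi.single j 1) i = suHom n F q g i j := by
      rw [hφdef, matRep_apply]
      simp
    rw [h3] at h2
    rw [h2]
    simp [Matrix.one_apply, Matrix.mul_apply, Pi.single_apply, mul_comm]
  have hdet : (suHom n F q g : Matrix (Fin n) (Fin n) F).det = 1 := g.1.2
  rw [hM, Matrix.det_one_add_replicateCol_mul_replicateRow] at hdet
  have hdv : d ⬝ᵥ v₀ = 0 := by
    have := hdet
    linear_combination this
  -- `c = 1`
  have hgv : φ g v₀ = v₀ := by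
    rw [hφdef, matRep_apply, hM]
    have h4 : Matrix.toLinAlgEquiv' (1 + Matrix.replicateCol Unit v₀ * Matrix.replicateRow Unit d) v₀ =
        v₀ + (d ⬝ᵥ v₀) • v₀ := by
      rw [Matrix.toLinAlgEquiv'_apply, Matrix.add_mulVec, Matrix.one_mulVec]
      congr 1
      ext i
      rw [Matrix.mulVec, dotProduct]
      simp only [Matrix.mul_apply, Matrix.replicateCol_apply, Matrix.replicateRow_apply, Finset.univ_unique,
        Finset.sum_singleton, Pi.smul_apply, smul_eq_mul, dotProduct, Finset.sum_mul]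
      refine Finset.sum_congr rfl fun j _ => by ring
    rw [h4, hdv, zero_smul, add_zero]
  apply hφ
  rw [map_one]
  refine LinearMap.ext fun v => ?_
  obtain ⟨w, hw, hwv⟩ := K1_sum hg hzp v
  obtain ⟨e, rfl⟩ := hspan w hw
  rw [map_smul, hgv, sub_self, smul_eq_zero] at hwv
  have h5 := hwv.resolve_left hp0
  rw [sub_eq_zero] at h5
  exact h5

/-! ### `GU` -/

/-- The inclusion of `GU_n` into matrices. -/
def guHom (n : ℕ) (F : Type) [Field F] (q : ℕ) : Cfsg.GU n F q →* Matrix (Fin n) (Fin n) F :=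
  (Units.coeHom (Matrix (Fin n) (Fin n) F)).comp (Cfsg.GU n F q).subtype

theorem guHom_injective (n : ℕ) (F : Type) [Field F] (q : ℕ) : Function.Injective (guHom n F q) :=
  Units.val_injective.comp (Cfsg.GU n F q).subtype_injective

/-- `SU` as a subgroup of `GU`. -/
def toGU (n : ℕ) (F : Type) [Field F] (q : ℕ) : Cfsg.SU n F q →* Cfsg.GU n F q :=
  ((Matrix.SpecialLinearGroup.toGL (n := Fin n) (R := F)).comp (Cfsg.SU n F q).subtype).codRestrict (Cfsg.GU n F q)
    (fun g => g.2)

theorem guHom_toGU (g : Cfsg.SU n F q) : guHom n F q (toGU n F q g) = suHom n F q g := rfl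

theorem toGU_injective : Function.Injective (toGU n F q) := by
  intro a b h
  apply suHom_injective n F q
  rw [← guHom_toGU, ← guHom_toGU, h]

/-- the scalars of norm one -/
def scal (n : ℕ) (F : Type) [Field F] (q : ℕ) : rootsOfUnity (q + 1) F →* Cfsg.GU n F q where
  toFun t := ClassicalGeometry.GUBasic.guDiag q (fun _ => ((t : Fˣ) : F)) fun _ => by
    have h := t.2
    rw [mem_rootsOfUnity] at h
    have h2 := congrArg Units.val h
    rwa [Units.val_pow_eq_pow_val, Units.val_one] at h2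
  map_one' := by
    apply guHom_injective
    show Matrix.diagonal _ = _
    simp only [_root_.OneMemClass.coe_one, _root_.Units.val_one, _root_.Matrix.diagonal_one, _root_.map_one]
  map_mul' a b := by
    apply guHom_injective
    rw [map_mul]
    show Matrix.diagonal _ = Matrix.diagonal _ * Matrix.diagonal _
    rw [Matrix.diagonal_mul_diagonal]
    rfl

theorem guHom_scal (t : rootsOfUnity (q + 1) F) :
    guHom n F q (scal n F q t) = ((t : Fˣ) : F) • (1 : Matrix (Fin n) (Fin n) F) := by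
  show Matrix.diagonal _ = _
  rw [Matrix.smul_one_eq_diagonal]

theorem scal_comm (t : rootsOfUnity (q + 1) F) (g : Cfsg.GU n F q) : Commute g (scal n F q t) := by
  apply guHom_injective
  rw [map_mul, map_mul, guHom_scal, Matrix.smul_mul, Matrix.mul_smul, one_mul, mul_one]

/-- centralizers in `SU` and in `GU` -/
theorem card_cent_mul_le (hF : Fintype.card F = q ^ 2) (hn : 0 < n) (z : Cfsg.SU n F q) :
    Nat.card (Subgroup.centralizer ({z} : Set (Cfsg.SU n F q))) * (q + 1) ≤
      Nat.card (Subgroup.centralizer ({toGU n F q z} : Set (Cfsg.GU n F q))) *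
        Nat.card (Subgroup.center (Cfsg.SU n F q)) := by
  classical
  have hfin : Finite (Matrix.GeneralLinearGroup (Fin n) F) := inferInstance
  set C := Subgroup.centralizer ({z} : Set (Cfsg.SU n F q)) with hC
  let ψ : C × rootsOfUnity (q + 1) F →* Cfsg.GU n F q :=
    MonoidHom.noncommCoprod ((toGU n F q).comp C.subtype) (scal n F q) (fun c t => scal_comm t _)
  have hψ : ∀ c t, ψ (c, t) = toGU n F q c * scal n F q t := fun c t => rfl
  have hcard : Nat.card (C × rootsOfUnity (q + 1) F) = Nat.card ψ.range * Nat.card ψ.ker := by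
    rw [← Subgroup.card_mul_index ψ.ker, Subgroup.index_ker, mul_comm]
  rw [Nat.card_prod, ClassicalGeometry.GUBasic.card_rootsOfUnity_eq hF] at hcard
  rw [hcard]
  refine Nat.mul_le_mul ?_ ?_
  · apply Subgroup.card_le_of_le
    rintro _ ⟨⟨c, t⟩, rfl⟩
    rw [hψ, Subgroup.mem_centralizer_singleton_iff]
    have h1 : (c : Cfsg.SU n F q) * z = z * c := Subgroup.mem_centralizer_singleton_iff.1 c.2
    rw [mul_assoc, (scal_comm t (toGU n F q z)).symm.eq, ← mul_assoc, ← map_mul, h1, map_mul, mul_assoc]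
  · refine Nat.card_le_card_of_injective (fun x : ψ.ker => (⟨((x : C × rootsOfUnity (q + 1) F).1 : Cfsg.SU n F q), ?_⟩ :
      Subgroup.center (Cfsg.SU n F q))) ?_
    · obtain ⟨⟨c, t⟩, hx⟩ := x
      rw [MonoidHom.mem_ker, hψ] at hx
      rw [Subgroup.mem_center_iff]
      intro g
      apply toGU_injective
      have h2 : toGU n F q (c : Cfsg.SU n F q) = (scal n F q t)⁻¹ := eq_inv_of_mul_eq_one_left hx
      rw [map_mul, map_mul, h2]
      exact (scal_comm t _).inv_right.eq
    · rintro ⟨⟨c, t⟩, hx⟩ ⟨⟨c', t'⟩, hx'⟩ heq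
      have h1 : (c : Cfsg.SU n F q) = c' :=
        congrArg (fun y : Subgroup.center (Cfsg.SU n F q) => (y : Cfsg.SU n F q)) heq
      rw [MonoidHom.mem_ker, hψ] at hx hx'
      have h2 : scal n F q t = scal n F q t' := by
        rw [h1] at hx
        exact mul_left_cancel (hx.trans hx'.symm)
      have h3 : t = t' := by
        have h4 := congrArg (guHom n F q) h2
        rw [guHom_scal, guHom_scal] at h4
        have h5 := congrFun (congrFun h4 ⟨0, hn⟩) ⟨0, hn⟩
        simp only [Matrix.smul_apply, Matrix.one_apply_eq, smul_eq_mul, mul_one] at h5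
        exact Subtype.ext (Units.ext h5)
      exact Subtype.ext (Prod.ext (Subtype.ext h1) h3)

/-! ### bounds for the centralizers -/

theorem herm_left (hF : Fintype.card F = q ^ 2) (x y z : Fin n → F) :
    Cfsg.hermForm n F q z (x + y) = Cfsg.hermForm n F q z x + Cfsg.hermForm n F q z y := by
  obtain ⟨σ, hσ⟩ := ClassicalGeometry.GUBasic.exists_powHom hF
  simp only [Cfsg.hermForm, Pi.add_apply, ← hσ, map_add, mul_add, Finset.sum_add_distrib]

theorem herm_smul (c : F) (x y : Fin n → F) :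
    Cfsg.hermForm n F q y (c • x) = c ^ q * Cfsg.hermForm n F q y x := by
  simp only [Cfsg.hermForm, Pi.smul_apply, smul_eq_mul, mul_pow, Finset.mul_sum]
  refine Finset.sum_congr rfl fun i _ => by ring

/-- the bound in `SU` -/
theorem cent_su {e p : ℕ} (hF : Fintype.card F = q ^ 2) (hp : p.Prime) (hpF : ¬ p ∣ Fintype.card F)
    (he : orderOf ((q ^ 2 : ℕ) : ZMod p) = e) (hen : n ≤ e + 1) (he1 : 2 ≤ e)
    {z : Cfsg.SU n F q} (hz : orderOf z = p) :
    Nat.card (Subgroup.centralizer ({z} : Set (Cfsg.SU n F q))) ≤ q ^ e + 1 := by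
  obtain ⟨σ, hσ⟩ := ClassicalGeometry.GUBasic.exists_powHom hF
  have hd : finrank F (Fin n → F) = n := finrank_fin
  set φ := matRep (suHom n F q) with hφdef
  have hφ : Function.Injective φ := matRep_injective (suHom_injective _ _ _)
  have h1 := cent_le φ hφ (frm_herm hF) (fun x y z => herm_left hF x y z) σ
    (fun c x y => by rw [hσ]; exact herm_smul c x y) (fun g u v => g.2 v u) hp hpF
    (by rw [hd, hF, he]; omega) hz (Q := q ^ e) (by rw [hF, he, ← pow_mul, ← pow_mul, mul_comm])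
  have hzp : z ^ p = 1 := by rw [← hz, pow_orderOf_eq_one]
  have hz1 : φ z ≠ 1 := Cfsg.Agent.H518.DghpSep.ne_one_of_orderOf φ hφ hp hz
  have h2 := finrank_fixS_add_le hp hpF (f := φ z) (by rw [← map_pow, hzp, map_one]) hz1
  rw [hd, hF, he] at h2
  have h3 : finrank F (fixS (φ z)) ≤ 1 := by omega
  rw [K1_su hp hpF hzp h3, Subgroup.card_bot, mul_one] at h1
  exact h1

/-- the bound in `GU`, irreducible case -/
theorem cent_gu {p : ℕ} (hF : Fintype.card F = q ^ 2) (hp : p.Prime) (hpF : ¬ p ∣ Fintype.card F)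
    (he : orderOf ((q ^ 2 : ℕ) : ZMod p) = n) (hn : 0 < n)
    {z : Cfsg.GU n F q} (hz : orderOf z = p) :
    Nat.card (Subgroup.centralizer ({z} : Set (Cfsg.GU n F q))) ≤ q ^ n + 1 := by
  obtain ⟨σ, hσ⟩ := ClassicalGeometry.GUBasic.exists_powHom hF
  have hd : finrank F (Fin n → F) = n := finrank_fin
  set φ := matRep (guHom n F q) with hφdef
  have hφ : Function.Injective φ := matRep_injective (guHom_injective _ _ _)
  have h1 := cent_le φ hφ (frm_herm hF) (fun x y z => herm_left hF x y z) σ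
    (fun c x y => by rw [hσ]; exact herm_smul c x y) (fun g u v => g.2 v u) hp hpF
    (by rw [hd, hF, he]; omega) hz (Q := q ^ n) (by rw [hF, he, ← pow_mul, ← pow_mul, mul_comm])
  have hzp : z ^ p = 1 := by rw [← hz, pow_orderOf_eq_one]
  have hz1 : φ z ≠ 1 := Cfsg.Agent.H518.DghpSep.ne_one_of_orderOf φ hφ hp hz
  have h2 := finrank_fixS_add_le hp hpF (f := φ z) (by rw [← map_pow, hzp, map_one]) hz1
  rw [hd, hF, he] at h2
  rw [K1_eq_bot_of_fix φ hφ (Submodule.finrank_eq_zero.1 (by omega)), Subgroup.card_bot, mul_one] at h1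
  exact h1

/-- the bound in `PSU_n` -/
theorem cent_psu {e p : ℕ} (hF : Fintype.card F = q ^ 2) (hp : p.Prime) (hpF : ¬ p ∣ Fintype.card F)
    (he : orderOf ((q ^ 2 : ℕ) : ZMod p) = e) (hen : n ≤ e + 1) (he1 : 2 ≤ e)
    (hc : ¬ p ∣ Nat.card (Subgroup.center (Cfsg.SU n F q))) {u : Cfsg.PSU n F q} (hu : orderOf u = p) :
    Nat.card (Subgroup.centralizer ({u} : Set (Cfsg.PSU n F q))) ≤ q ^ e + 1 := by
  have h1 := cent_quot hp hc (fun z hz => cent_su hF hp hpF he hen he1 hz) u hu
  have h2 : 0 < Nat.card (Subgroup.center (Cfsg.SU n F q)) := Nat.card_pos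
  exact (Nat.le_mul_of_pos_right _ h2).trans h1

/-- the bound in `PSU_n`, irreducible case -/
theorem cent_psu_irr {p : ℕ} (hF : Fintype.card F = q ^ 2) (hp : p.Prime) (hpF : ¬ p ∣ Fintype.card F)
    (he : orderOf ((q ^ 2 : ℕ) : ZMod p) = n) (hn : 0 < n)
    (hc : ¬ p ∣ Nat.card (Subgroup.center (Cfsg.SU n F q))) {u : Cfsg.PSU n F q} (hu : orderOf u = p) :
    Nat.card (Subgroup.centralizer ({u} : Set (Cfsg.PSU n F q))) * (q + 1) ≤ q ^ n + 1 := by
  set d := Nat.card (Subgroup.center (Cfsg.SU n F q)) with hd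
  have hd0 : 0 < d := Nat.card_pos
  have h1 := cent_quot (G := Cfsg.SU n F q) hp hc (c := (q ^ n + 1) * d / (q + 1)) (fun z hz => by
    rw [Nat.le_div_iff_mul_le (by omega)]
    refine (card_cent_mul_le hF hn z).trans (Nat.mul_le_mul_right _ ?_)
    exact cent_gu hF hp hpF he hn (by rw [orderOf_injective _ toGU_injective, hz])) u hu
  rw [Nat.le_div_iff_mul_le (by omega)] at h1
  refine Nat.le_of_mul_le_mul_right (c := d) ?_ hd0
  calc Nat.card (Subgroup.centralizer ({u} : Set (Cfsg.PSU n F q))) * (q + 1) * d =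
      Nat.card (Subgroup.centralizer ({u} : Set (Cfsg.PSU n F q))) * d * (q + 1) := by ring
    _ ≤ _ := h1

/-! ### the row -/

/-- lower bound for the index, `n ≥ 5` -/
theorem index_ge {e : ℕ} (hF : Fintype.card F = q ^ 2) (hn : 5 ≤ n) (heodd : Odd e) (hen : e = n ∨ e + 1 = n)
    (H : Subgroup (Cfsg.PSU n F q)) (hH : H ≠ ⊤) : 2 * (q ^ e + 1) ≤ H.index := by
  have hq2 := ClassicalGeometry.GUBasic.two_le hF
  obtain ⟨X, hX⟩ : ∃ X : ℤ, X = (q : ℤ) ^ (n - 2) := ⟨_, rfl⟩
  have hq0 : (2 : ℤ) ≤ q := by exact_mod_cast hq2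
  have hX1 : (q : ℤ) ^ 3 ≤ X := by
    rw [hX]
    exact pow_le_pow_right₀ (by omega) (by omega)
  have hX8 : 8 ≤ X := by nlinarith only [hq2, hX1, sq_nonneg ((q : ℤ) - 2)]
  have hn1 : (q : ℤ) ^ n = (q : ℤ) ^ 2 * X := by
    rw [hX, ← pow_add]; congr 1; omega
  have hn2 : (q : ℤ) ^ (n - 1) = (q : ℤ) * X := by
    rw [hX, ← pow_succ']; congr 1; omega
  have hI := Cfsg.Agent.H77.Final.lower hF hn H hH
  rw [Cfsg.Agent.H77.Step1.In, ← hX] at hI
  have hXq : (q : ℤ) ^ 2 ≤ X := by nlinarith only [hq2, hX1]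
  have hQ1 : (0 : ℤ) < (q : ℤ) ^ 2 - 1 := by nlinarith only [hq2]
  have hgoal : (2 * ((q : ℤ) ^ e + 1) : ℤ) ≤ (H.index : ℤ) → 2 * (q ^ e + 1) ≤ H.index := by
    intro h
    exact_mod_cast h
  apply hgoal
  rcases hen with rfl | hen
  · rw [Odd.neg_one_pow heodd] at hI
    rcases hI with hI | ⟨-, heven, -⟩
    · rw [hn1]
      refine le_of_mul_le_mul_right (le_trans ?_ hI) hQ1
      have h1 : 2 * ((q : ℤ) ^ 2 - 1) ≤ (q : ℤ) * X - 1 := by nlinarith only [hX1, hQ1]
      have h2 : (0 : ℤ) ≤ (q : ℤ) ^ 2 * X + 1 := by positivity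
      linarith only [mul_le_mul_of_nonneg_left h1 h2]
    · exact absurd heven (Nat.not_even_iff_odd.2 heodd)
  · have heven : Even n := by
      rw [← hen]
      exact heodd.add_one
    have he : e = n - 1 := by omega
    rw [Even.neg_one_pow heven] at hI
    rw [he, hn2]
    rcases hI with hI | ⟨h2, -, hI⟩
    · refine le_of_mul_le_mul_right (le_trans ?_ hI) hQ1
      have h1 : 2 * ((q : ℤ) ^ 2 - 1) ≤ (q : ℤ) ^ 2 * X - 1 := by nlinarith only [hX8]
      have h2 : (0 : ℤ) ≤ (q : ℤ) * X + 1 := by positivity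
      linarith only [mul_le_mul_of_nonneg_left h1 h2]
    · have hX' : X = (2 : ℤ) ^ (n - 2) := by rw [hX, h2]; norm_num
      rw [← hX'] at hI
      have h3 : (q : ℤ) = 2 := by exact_mod_cast h2
      rw [h3]
      nlinarith only [hX8, hI]

/-- `(q + 1) ∣ q ^ 3 + 1` -/
theorem cube_add_one (q : ℕ) (hq : 1 ≤ q) : q ^ 3 + 1 = (q ^ 2 - q + 1) * (q + 1) := by
  obtain ⟨k, rfl⟩ : ∃ k, q = k + 1 := ⟨q - 1, by omega⟩
  have h1 : (k + 1) ^ 2 - (k + 1) = k * (k + 1) := by
    rw [sq, ← Nat.sub_one_mul]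
    simp
  rw [h1]
  ring

/-- **The counting data of `PSU_n(q)`.** -/
theorem cnt_psu {g p₀ f : ℕ} (hg : Cond q f g) (hp₀ : p₀.Prime) (hf : 1 ≤ f) (hq : q = p₀ ^ f)
    (hF : Fintype.card F = q ^ 2) (hn : 3 ≤ n)
    (h32 : ¬ (n = 3 ∧ q = 2)) (h42 : ¬ (n = 4 ∧ q = 2)) : Cnt g (Cfsg.PSU n F q) := by
  have hq1 : 1 < q := one_lt_of_sq hF
  -- `e = n` or `e = n - 1`, odd
  obtain ⟨e, heodd, hen⟩ : ∃ e, Odd e ∧ (e = n ∨ e + 1 = n) := by
    rcases Nat.even_or_odd n with h | h
    · obtain ⟨k, hk⟩ := h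
      exact ⟨n - 1, ⟨k - 1, by omega⟩, by omega⟩
    · exact ⟨n, h, Or.inl rfl⟩
  have heodd' := heodd
  obtain ⟨k, hk⟩ := heodd'
  obtain ⟨p, a, ⟨hp, hp5, ha, hord, hdvd, hdvd', hpf⟩, hs⟩ := exists_pack_unitary (e := e) hp₀ hf hq (by omega)
    (by omega)
  obtain ⟨h1, h2⟩ := add_one_facts hp (by omega) (by omega) hord hdvd hdvd'
  have he : orderOf ((q ^ 2 : ℕ) : ZMod p) = e := orderOf_sq hord (by omega)
  have hpF : ¬ p ∣ Fintype.card F := by
    rw [hF]
    exact not_dvd_of_orderOf hp he (by omega)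
  have hpq : ¬ p ∣ q := not_dvd_of_orderOf hp hord (by omega)
  have hd : finrank F (Fin n → F) = n := finrank_fin
  have hG : p ^ a ∣ Nat.card (Cfsg.SU n F q) := by
    have h3 := factor_dvd_card_SU hF (i := e - 1) (n := n) (by omega) (by omega)
    have h4 : Even (e - 1) := ⟨k, by omega⟩
    rw [if_pos h4, Nat.sub_add_cancel (by omega)] at h3
    exact h1.trans h3
  have hG' : ¬ p ^ (a + 1) ∣ Nat.card (Cfsg.SU n F q) := by
    obtain ⟨m, hm⟩ : ∃ m, n = m + 1 := ⟨n - 1, by omega⟩
    subst hm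
    rw [card_SU_succ hF]
    refine not_pow_dvd_mul_of_not_dvd hp (not_dvd_pow hp hpq) ?_
    refine not_pow_dvd_prod hp (Finset.range m) _ (e - 2) ?_ ?_ (Finset.mem_range.2 (by omega))
    · have h3 : Even (e - 2 + 1) := ⟨k, by (clear * - hk hn hen; omega)⟩
      have h4 : e - 2 + 1 + 1 = e := by (clear * - hn hen; omega)
      rw [if_pos h3, h4]
      exact h2
    · intro i hi hi'
      have hi2 := Finset.mem_range.1 hi
      by_cases h3 : Even (i + 1)
      · rw [if_pos h3]
        intro h4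
        obtain ⟨l, hl⟩ := h3
        refine not_dvd_of_lt (j := 2 * (i + 1 + 1)) (by omega) hord (by omega) (by (clear * - hk hen hi' hi2 hl; omega)) (h4.trans ?_)
        have := Nat.sq_sub_sq (q ^ (i + 1 + 1)) 1
        rw [one_pow, ← pow_mul, mul_comm (i + 1 + 1) 2] at this
        rw [this]
        exact Dvd.intro _ rfl
      · rw [if_neg h3]
        exact not_dvd_of_lt (by omega) hord (by omega) (by (clear * - hn hen hi2; omega))
  have h2e : finrank F (Fin n → F) < 2 * orderOf ((Fintype.card F : ℕ) : ZMod p) := by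
    rw [hd, hF, he]
    omega
  obtain ⟨y, hy⟩ := exists_orderOf hp (by omega) (commuting_of_rep (matRep (suHom n F q))
    (matRep_injective (suHom_injective _ _ _)) hp hpF h2e) hG
  have hel : El p y := by
    refine el_of_size (matRep (suHom n F q)) (matRep_injective (suHom_injective _ _ _)) hp (by omega) ha hpF h2e
      (Or.inl (by rw [hd]; exact hs n (by omega))) hy ?_
    refine core_fix_one (matRep (suHom n F q)) (matRep_injective (suHom_injective _ _ _)) (frm_herm hF) ?_ hp hpF h2e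
      (by rw [hd, hF, he]; omega) ha hy
    intro g u v
    exact g.2 v u
  have hc : ¬ p ∣ Nat.card (Subgroup.center (Cfsg.SU n F q)) := by
    rw [Cfsg.Agent.S0279.result hF n hn]
    exact fun h => not_dvd_add_one hq1 he (by omega) (h.trans (Nat.gcd_dvd_right _ _))
  -- the bounds
  obtain ⟨b, hb1, hb2⟩ : ∃ b, (∀ H : Subgroup (Cfsg.PSU n F q), H ≠ ⊤ → b ≤ H.index) ∧
      ∀ u : Cfsg.PSU n F q, orderOf u = p → 2 * Nat.card (Subgroup.centralizer ({u} : Set (Cfsg.PSU n F q))) ≤ b := by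
    rcases Nat.lt_or_ge n 5 with hn5 | hn5
    · rcases (show n = 3 ∨ n = 4 by omega) with hn3 | hn4
      · subst hn3
        have he3 : e = 3 := by omega
        subst he3
        have hq3 : 3 ≤ q := by
          by_contra hcon
          exact h32 ⟨rfl, by omega⟩
        refine ⟨2 * (q ^ 2 - q + 1), fun H hH => ?_, fun u hu => ?_⟩
        · by_cases hq5 : q = 5
          · subst hq5
            have := (Cfsg.Agent.S2149.result (F := F) (by rw [hF]; norm_num)).1 H hH
            norm_num at this ⊢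
            omega
          · refine le_trans ?_ ((Cfsg.Agent.S2148.result q hF hq3 hq5).1 H hH)
            rw [cube_add_one q (by omega)]
            nlinarith only [hq3]
        · have h5 := cent_psu_irr hF hp hpF he (by omega) hc hu
          rw [cube_add_one q (by omega)] at h5
          exact Nat.mul_le_mul_left 2 (Nat.le_of_mul_le_mul_right h5 (by omega))
      · subst hn4
        have he3 : e = 3 := by omega
        subst he3
        refine ⟨2 * (q ^ 3 + 1), fun H hH => ?_, fun u hu => ?_⟩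
        · refine le_trans ?_ ((Cfsg.Agent.S2150.result q hF (by omega)).1 H hH)
          exact Nat.mul_le_mul_right _ (by omega)
        · exact Nat.mul_le_mul_left 2 (cent_psu hF hp hpF he (by omega) (by omega) hc hu)
    · refine ⟨2 * (q ^ e + 1), fun H hH => index_ge hF hn5 heodd hen H hH, fun u hu => ?_⟩
      exact Nat.mul_le_mul_left 2 (cent_psu hF hp hpF he (by omega) (by omega) hc hu)
  have hk1 : (QuotientGroup.mk' (Subgroup.center (Cfsg.SU n F q))).ker = Subgroup.center (Cfsg.SU n F q) :=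
    QuotientGroup.ker_mk' _
  have hk2 : ¬ p ∣ Nat.card (QuotientGroup.mk' (Subgroup.center (Cfsg.SU n F q))).ker := by rwa [hk1]
  refine ⟨p, a, b, hp, hp5, ha, hg p hp hp5 hpf (by (clear * - hn hen hord; omega)), ?_,
    ⟨QuotientGroup.mk' (Subgroup.center (Cfsg.SU n F q)) y, orderOf_map hp hy _ hk2,
      hel.map hp _ (QuotientGroup.mk'_surjective _) ?_ hk2⟩, hb1, hb2⟩
  · intro h
    apply hG'
    rw [Subgroup.card_eq_card_quotient_mul_card_subgroup (Subgroup.center (Cfsg.SU n F q))]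
    exact Dvd.dvd.mul_right h _
  · rw [hk1]
    exact Group.isSolvable_of_comm fun a b => Subtype.ext ((Subgroup.mem_center_iff.1 b.2) a)

end SU

end Cfsg.Agent.H541.CntPsu
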